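import Mathlib
import Cfsg.Agent.Lib.Classical.LinBasic

/-!
`SL_n(F)`, `n ≥ 3`, is generated by three conjugates of a regular unipotent element.
-/

set_option autoImplicit false
set_option linter.unusedSectionVars false

namespace Cfsg.Agent.Small.Generation

open Matrix

variable {F : Type*} [Field F] {n : ℕ}

/-- The transvection matrix `1 + a φ`. -/
def tv (a φ : Fin n → F) : Matrix (Fin n) (Fin n) F := 1 + Matrix.vecMulVec a φ

theorem tv_mulVec (a φ x : Fin n → F) : tv a φ *ᵥ x = x + (φ ⬝ᵥ x) • a := by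
  rw [tv, Matrix.add_mulVec, Matrix.one_mulVec, Matrix.vecMulVec_mulVec]
  simp

theorem tv_vecMul (a φ ψ : Fin n → F) : ψ ᵥ* tv a φ = ψ + (ψ ⬝ᵥ a) • φ := by
  rw [tv, Matrix.vecMul_add, Matrix.vecMul_one, Matrix.vecMul_vecMulVec]

theorem tv_det (a φ : Fin n → F) : (tv a φ).det = 1 + φ ⬝ᵥ a := by
  rw [tv, Matrix.vecMulVec_eq Unit, Matrix.det_one_add_replicateCol_mul_replicateRow]

theorem ext_mulVec {A B : Matrix (Fin n) (Fin n) F} (h : ∀ x, A *ᵥ x = B *ᵥ x) : A = B :=
  Matrix.toLin'.injective (LinearMap.ext fun v => by simpa using h v)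

theorem tv_add_left (a c φ : Fin n → F) (hc : φ ⬝ᵥ c = 0) : tv a φ * tv c φ = tv (a + c) φ := by
  apply ext_mulVec
  intro x
  rw [← Matrix.mulVec_mulVec, tv_mulVec, tv_mulVec, tv_mulVec, dotProduct_add, dotProduct_smul, hc,
    smul_zero, add_zero]
  module

theorem tv_smul (k : F) (a φ : Fin n → F) : tv (k • a) φ = tv a (k • φ) := by
  rw [tv, tv, Matrix.smul_vecMulVec, Matrix.vecMulVec_smul]

/-- The transvection as an element of `SL`. -/
def tE (a φ : Fin n → F) (h : φ ⬝ᵥ a = 0) : Matrix.SpecialLinearGroup (Fin n) F :=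
  ⟨tv a φ, by rw [tv_det, h, add_zero]⟩

/-- The subgroup `G` contains the transvection `1 + a φ`. -/
def In (G : Subgroup (Matrix.SpecialLinearGroup (Fin n) F)) (a φ : Fin n → F) : Prop :=
  φ ⬝ᵥ a = 0 ∧ ∃ g ∈ G, g.1 = tv a φ

variable {G : Subgroup (Matrix.SpecialLinearGroup (Fin n) F)}

theorem In.zero_left (φ : Fin n → F) : In G 0 φ := ⟨dotProduct_zero φ, 1, one_mem G, by simp [tv]⟩

theorem In.zero_right (a : Fin n → F) : In G a 0 := ⟨zero_dotProduct a, 1, one_mem G, by simp [tv]⟩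

theorem In.add {a c φ : Fin n → F} (ha : In G a φ) (hc : In G c φ) : In G (a + c) φ := by
  obtain ⟨h1, g, hg, hga⟩ := ha
  obtain ⟨h2, g', hg', hgc⟩ := hc
  refine ⟨by rw [dotProduct_add, h1, h2, add_zero], g * g', mul_mem hg hg', ?_⟩
  rw [Matrix.SpecialLinearGroup.coe_mul, hga, hgc, tv_add_left a c φ h2]

theorem In.neg {a φ : Fin n → F} (ha : In G a φ) : In G (-a) φ := by
  obtain ⟨h1, g, hg, hga⟩ := ha
  have h2 : φ ⬝ᵥ (-a) = 0 := by rw [dotProduct_neg, h1, neg_zero]
  refine ⟨h2, g⁻¹, inv_mem hg, ?_⟩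
  have : g⁻¹ = tE (-a) φ h2 := by
    apply inv_eq_of_mul_eq_one_right
    apply Subtype.ext
    rw [Matrix.SpecialLinearGroup.coe_mul, hga]
    change tv a φ * tv (-a) φ = 1
    rw [tv_add_left a (-a) φ h2, add_neg_cancel]
    simp [tv]
  rw [this]; rfl

theorem In.conj {a φ : Fin n → F} (ha : In G a φ) {g : Matrix.SpecialLinearGroup (Fin n) F}
    (hg : g ∈ G) : In G (g.1 *ᵥ a) (φ ᵥ* (g⁻¹).1) := by
  obtain ⟨h1, x, hx, hxa⟩ := ha
  have hinv : (g⁻¹).1 * g.1 = 1 := by
    rw [← Matrix.SpecialLinearGroup.coe_mul, inv_mul_cancel, Matrix.SpecialLinearGroup.coe_one]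
  have hinv' : g.1 * (g⁻¹).1 = 1 := by
    rw [← Matrix.SpecialLinearGroup.coe_mul, mul_inv_cancel, Matrix.SpecialLinearGroup.coe_one]
  refine ⟨?_, g * x * g⁻¹, mul_mem (mul_mem hg hx) (inv_mem hg), ?_⟩
  · rw [← Matrix.dotProduct_mulVec, Matrix.mulVec_mulVec, hinv, Matrix.one_mulVec, h1]
  · rw [Matrix.SpecialLinearGroup.coe_mul, Matrix.SpecialLinearGroup.coe_mul, hxa, tv, tv, mul_add,
      mul_one, add_mul, hinv', Matrix.mul_vecMulVec, Matrix.vecMulVec_mul]

/-- Commutator of two transvections. -/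
theorem In.comm {a φ b ψ : Fin n → F} (ha : In G a φ) (hb : In G b ψ) (h : φ ⬝ᵥ b = 0) :
    In G ((ψ ⬝ᵥ a) • b) φ := by
  obtain ⟨hn1, x, hx, hxa⟩ := ha
  obtain ⟨hn2, y, hy, hyb⟩ := hb
  have h1 : In G b ψ := ⟨hn2, y, hy, hyb⟩
  have ha' : In G a φ := ⟨hn1, x, hx, hxa⟩
  obtain ⟨-, z, hz, hzb⟩ := h1.conj hx
  have hxinv : (x⁻¹).1 = tv (-a) φ := by
    have h2 : φ ⬝ᵥ (-a) = 0 := by rw [dotProduct_neg, hn1, neg_zero]
    have : x⁻¹ = tE (-a) φ h2 := by
      apply inv_eq_of_mul_eq_one_right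
      apply Subtype.ext
      rw [Matrix.SpecialLinearGroup.coe_mul, hxa]
      change tv a φ * tv (-a) φ = 1
      rw [tv_add_left a (-a) φ h2, add_neg_cancel]
      simp [tv]
    rw [this]; rfl
  rw [hxinv, hxa, tv_mulVec, tv_vecMul, h, zero_smul, add_zero, dotProduct_neg] at hzb
  obtain ⟨-, w, hw, hwb⟩ := h1.neg
  have hm : In G (-((ψ ⬝ᵥ a) • b)) φ := by
    refine ⟨by rw [dotProduct_neg, dotProduct_smul, h, smul_zero, neg_zero], z * w,
      mul_mem hz hw, ?_⟩
    rw [Matrix.SpecialLinearGroup.coe_mul, hzb, hwb]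
    apply ext_mulVec
    intro t
    rw [← Matrix.mulVec_mulVec, tv_mulVec, tv_mulVec, tv_mulVec, add_dotProduct, smul_dotProduct,
      dotProduct_add, dotProduct_add, dotProduct_smul, dotProduct_smul, dotProduct_neg,
      dotProduct_neg, hn2, h]
    simp only [smul_eq_mul]
    module
  have := hm.neg
  rwa [neg_neg] at this

/-- All transvections with axis `φ` lie in `G`. -/
def Full (G : Subgroup (Matrix.SpecialLinearGroup (Fin n) F)) (φ : Fin n → F) : Prop :=
  ∀ a, φ ⬝ᵥ a = 0 → In G a φ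

theorem Full.smul {φ : Fin n → F} (h : Full G φ) (k : F) : Full G (k • φ) := by
  intro a ha
  rcases eq_or_ne k 0 with rfl | hk
  · rw [zero_smul]; exact In.zero_right a
  have ha' : φ ⬝ᵥ (k • a) = 0 := by
    rw [dotProduct_smul]; rw [smul_dotProduct] at ha; exact ha
  obtain ⟨-, g, hg, hga⟩ := h _ ha'
  exact ⟨ha, g, hg, by rw [hga, tv_smul]⟩

theorem Full.conj {φ : Fin n → F} (h : Full G φ) {g : Matrix.SpecialLinearGroup (Fin n) F}
    (hg : g ∈ G) : Full G (φ ᵥ* g.1) := by
  intro a ha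
  rw [← Matrix.dotProduct_mulVec] at ha
  have h1 := (h _ ha).conj (inv_mem hg)
  rwa [inv_inv, Matrix.mulVec_mulVec, ← Matrix.SpecialLinearGroup.coe_mul, inv_mul_cancel,
    Matrix.SpecialLinearGroup.coe_one, Matrix.one_mulVec] at h1

theorem Full.add {φ ψ : Fin n → F} (hφ : Full G φ) (hψ : Full G ψ) : Full G (φ + ψ) := by
  by_cases h : ∀ c, ψ ⬝ᵥ c = 0 → φ ⬝ᵥ c = 0
  · by_cases h0 : ψ = 0
    · rw [h0, add_zero]; exact hφ
    obtain ⟨j, hj⟩ : ∃ j, ψ j ≠ 0 := Function.ne_iff.mp h0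
    have : φ = (φ j / ψ j) • ψ := by
      funext i
      have := h (Pi.single i 1 - (ψ i / ψ j) • Pi.single j 1) (by
        rw [dotProduct_sub, dotProduct_smul, dotProduct_single, dotProduct_single]
        simp only [mul_one, smul_eq_mul]
        field_simp
        ring)
      rw [dotProduct_sub, dotProduct_smul, dotProduct_single, dotProduct_single] at this
      simp only [mul_one, smul_eq_mul, sub_eq_zero] at this
      rw [Pi.smul_apply, smul_eq_mul, this]
      ring
    have h2 : φ + ψ = (φ j / ψ j + 1) • ψ := by rw [add_smul, one_smul, ← this]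
    rw [h2]; exact hψ.smul _
  · push Not at h
    obtain ⟨c, hc, hφc⟩ := h
    have hc' : ψ ⬝ᵥ ((φ ⬝ᵥ c)⁻¹ • c) = 0 := by rw [dotProduct_smul, hc, smul_zero]
    obtain ⟨-, g, hg, hga⟩ := hψ _ hc'
    have h2 := hφ.conj hg
    rwa [hga, tv_vecMul, dotProduct_smul, smul_eq_mul, inv_mul_cancel₀ hφc, one_smul] at h2

theorem top_of_three [Fintype F] (hn : 3 ≤ n) {u v : Matrix.SpecialLinearGroup (Fin n) F}
    (huG : u ∈ G) (hvG : v ∈ G) (c : Fin n → F) (hc : ∀ i, c i ≠ 0)
    (hu : ∀ (x : Fin n → F) (i : Fin n),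
      (u.1 *ᵥ x) i = x i + if h : (i : ℕ) + 1 < n then x ⟨i + 1, h⟩ else 0)
    (hv : ∀ (x : Fin n → F) (i : Fin n),
      (v.1 *ᵥ x) i = x i + if 0 < (i : ℕ) then c i * x ⟨(i : ℕ) - 1, by omega⟩ else 0)
    (hx : ∀ K : F, K = (Pi.single (⟨n - 1, by omega⟩ : Fin n) 1 ᵥ* (v⁻¹).1) ⟨0, by omega⟩ *
        c ⟨1, by omega⟩ → K ≠ 0 → ∃ ω : F, (∀ z : F, z ≠ 0 → ∃ k : ℕ, 0 < k ∧ ω ^ k = z) ∧
        In G ((ω / K) • Pi.single (⟨0, by omega⟩ : Fin n) 1)
          (Pi.single (⟨n - 1, by omega⟩ : Fin n) 1)) : G = ⊤ := by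
  classical
  let i0 : Fin n := ⟨0, by omega⟩
  let i1 : Fin n := ⟨1, by omega⟩
  let L : Fin n := ⟨n - 1, by omega⟩
  let e : Fin n → Fin n → F := fun i => Pi.single i 1
  set φ₀ : Fin n → F := Pi.single L 1 with hφ₀
  have hdot : ∀ x : Fin n → F, φ₀ ⬝ᵥ x = x L := fun x => by simp [hφ₀]
  have hve : ∀ k l : Fin n, (l : ℕ) = k + 1 → v.1 *ᵥ e k = e k + c l • e l := by
    intro k l hkl
    funext i
    rw [hv, Pi.add_apply, Pi.smul_apply, smul_eq_mul]
    simp only [e]
    congr 1
    rcases eq_or_ne i l with rfl | hil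
    · rw [if_pos (by omega), Pi.single_eq_same, show (⟨(i : ℕ) - 1, _⟩ : Fin n) = k from
        Fin.ext (by simp only; omega), Pi.single_eq_same]
    · rw [Pi.single_eq_of_ne hil, mul_zero]
      split_ifs with h
      · rw [Pi.single_eq_of_ne (fun h' => hil (Fin.ext (by
          have := congrArg Fin.val h'; simp only at this; omega))), mul_zero]
      · rfl
  have hu0 : u.1 *ᵥ e i0 = e i0 := by
    funext i
    rw [hu]
    split_ifs with h
    · simp only [e]
      have h0 : (Pi.single i0 (1 : F) : Fin n → F) ⟨i + 1, h⟩ = 0 :=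
        Pi.single_eq_of_ne (Fin.ne_of_val_ne (by simp [i0])) _
      rw [h0, add_zero]
    · rw [add_zero]
  have hu1 : u.1 *ᵥ e i1 = e i1 + e i0 := by
    funext i
    rw [hu, Pi.add_apply]
    simp only [e]
    congr 1
    rcases eq_or_ne i i0 with rfl | hi
    · rw [dif_pos (show (i0 : ℕ) + 1 < n by simp only [i0]; omega), Pi.single_eq_same]
      exact Pi.single_eq_same (M := fun _ => F) i1 1
    · rw [Pi.single_eq_of_ne hi]
      split_ifs with h
      · rw [Pi.single_eq_of_ne fun h' => hi (Fin.ext (by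
          have := congrArg Fin.val h'; simp only [i1, i0] at this ⊢; omega))]
      · rfl
  have huφ : φ₀ ᵥ* (u⁻¹).1 = φ₀ := by
    have h1 : φ₀ ᵥ* u.1 = φ₀ := dotProduct_eq _ _ fun x => by
      rw [← Matrix.dotProduct_mulVec, hdot, hdot, hu, dif_neg (by simp only [L]; omega), add_zero]
    calc φ₀ ᵥ* (u⁻¹).1 = (φ₀ ᵥ* u.1) ᵥ* (u⁻¹).1 := by rw [h1]
      _ = φ₀ := by
        rw [Matrix.vecMul_vecMul, ← Matrix.SpecialLinearGroup.coe_mul, mul_inv_cancel,
          Matrix.SpecialLinearGroup.coe_one, Matrix.vecMul_one]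
  set f := φ₀ ᵥ* (v⁻¹).1 with hf
  have hfe : ∀ x, f ⬝ᵥ x = ((v⁻¹).1 *ᵥ x) L := fun x => by
    rw [hf, ← Matrix.dotProduct_mulVec, hdot]
  set δ := f ⬝ᵥ e i0 with hδ
  have hδ0 : δ ≠ 0 := by
    rw [hδ, hfe]
    set x := (v⁻¹).1 *ᵥ e i0 with hxd
    have hvx : v.1 *ᵥ x = e i0 := by
      rw [hxd, Matrix.mulVec_mulVec, ← Matrix.SpecialLinearGroup.coe_mul, mul_inv_cancel,
        Matrix.SpecialLinearGroup.coe_one, Matrix.one_mulVec]
    have hall : ∀ k : ℕ, ∀ hk : k < n, x ⟨k, hk⟩ ≠ 0 := by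
      intro k
      induction k with
      | zero =>
        intro hk h0
        have := congrFun hvx ⟨0, hk⟩
        rw [hv, h0] at this
        simp [e, i0] at this
      | succ k ih =>
        intro hk h0
        have := congrFun hvx ⟨k + 1, hk⟩
        rw [hv, h0, if_pos (Nat.succ_pos k), zero_add] at this
        simp only [e, Nat.add_sub_cancel] at this
        rw [Pi.single_eq_of_ne (by simp [i0, Fin.ext_iff])] at this
        exact ih (by omega) ((mul_eq_zero.mp this).resolve_left (hc _))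
    exact hall _ _
  have hb : v.1 *ᵥ e i0 = e i0 + c i1 • e i1 := hve i0 i1 rfl
  set b := v.1 *ᵥ e i0 with hbd
  have hbL : φ₀ ⬝ᵥ b = 0 := by
    rw [hdot, hb]
    have h0 : L ≠ i0 := Fin.ne_of_val_ne (by simp only [L, i0]; omega)
    have h1 : L ≠ i1 := Fin.ne_of_val_ne (by simp only [L, i1]; omega)
    simp [e, h0, h1]
  set A : AddSubgroup F :=
    { carrier := {t | In G (t • e i0) φ₀}
      zero_mem' := by simp only [Set.mem_ofPred_eq, zero_smul]; exact In.zero_left _
      add_mem' := fun ha hb => by simp only [Set.mem_ofPred_eq, add_smul]; exact In.add ha hb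
      neg_mem' := fun ha => by simp only [Set.mem_ofPred_eq, neg_smul]; exact In.neg ha } with hA
  have hAb : ∀ s ∈ A, ∀ t ∈ A, In G ((s * t * δ) • b) φ₀ := by
    intro s hs t ht
    have h1 := (show In G (t • e i0) φ₀ from ht).conj hvG
    rw [Matrix.mulVec_smul] at h1
    have h2 := In.comm (show In G (s • e i0) φ₀ from hs) h1
      (by rw [dotProduct_smul, ← hbd, hbL, smul_zero])
    rw [dotProduct_smul, ← hδ, smul_eq_mul, smul_smul] at h2
    rwa [show s * t * δ = s * δ * t by ring]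
  have hstep : ∀ s ∈ A, ∀ t ∈ A, s * t * δ * c i1 ∈ A := by
    intro s hs t ht
    have h1 := hAb s hs t ht
    have h2 := h1.conj huG
    rw [huφ, Matrix.mulVec_smul, hb, Matrix.mulVec_add, Matrix.mulVec_smul, hu0, hu1] at h2
    rw [hb] at h1
    have h3 := In.add h2 h1.neg
    change In G ((s * t * δ * c i1) • e i0) φ₀
    convert h3 using 1
    module
  set K := δ * c i1 with hK
  have hK0 : K ≠ 0 := mul_ne_zero hδ0 (hc _)
  obtain ⟨ω, hω, hωA⟩ := hx K (by rw [hK, hδ, dotProduct_single, mul_one]) hK0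
  have hpow : ∀ k : ℕ, 0 < k → ω ^ k / K ∈ A := by
    intro k hk
    induction k, hk using Nat.le_induction with
    | base => rw [pow_one]; exact hωA
    | succ k hk ih =>
      have := hstep _ ih _ hωA
      convert this using 1
      rw [hK] at hK0 ⊢
      field_simp
      ring
  have hAtop : ∀ t : F, t ∈ A := by
    intro t
    rcases eq_or_ne t 0 with rfl | ht
    · exact zero_mem A
    obtain ⟨k, hk, hkz⟩ := hω (t * K) (mul_ne_zero ht hK0)
    have := hpow k hk
    rwa [hkz, mul_div_cancel_right₀ _ hK0] at this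
  have he0 : ∀ t : F, In G (t • e i0) φ₀ := hAtop
  have hV : ∀ k : ℕ, ∀ hk : k + 1 < n, ∀ t : F, In G (t • e ⟨k, by omega⟩) φ₀ := by
    intro k
    induction k with
    | zero => intro _ t; exact he0 t
    | succ k ih =>
      intro hk t
      let a : Fin n := ⟨k, by omega⟩
      let a' : Fin n := ⟨k + 1, by omega⟩
      have h1 : ∀ s : F, In G (s • (v.1 *ᵥ e a)) φ₀ := by
        intro s
        have h2 := (ih (by omega) (s / δ)).conj hvG
        rw [Matrix.mulVec_smul] at h2
        have h3 := In.comm (he0 1) h2 (by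
          have h0 : L ≠ a := Fin.ne_of_val_ne (by simp only [L, a]; omega)
          have h1 : L ≠ a' := Fin.ne_of_val_ne (by simp only [L, a']; omega)
          rw [dotProduct_smul, hdot, hve a a' rfl]
          simp [e, h0, h1])
        rwa [dotProduct_smul, ← hδ, smul_eq_mul, one_mul, smul_smul, mul_div_cancel₀ _ hδ0] at h3
      have h4 := In.add (h1 (t / c a')) (ih (by omega) (t / c a')).neg
      rw [hve a a' rfl, smul_add, smul_smul, div_mul_cancel₀ _ (hc a')] at h4
      convert h4 using 1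
      simp only [a, a']
      abel
  have hfull : Full G φ₀ := by
    intro a ha
    rw [pi_eq_sum_univ' a]
    refine Finset.sum_induction _ (fun w => In G w φ₀) (fun _ _ h1 h2 => In.add h1 h2)
      (In.zero_left _) fun i _ => ?_
    by_cases hi : (i : ℕ) + 1 < n
    · exact hV i hi (a i)
    · have : i = L := Fin.ext (by simp only [L]; omega)
      rw [hdot] at ha
      rw [this, ha, zero_smul]
      exact In.zero_left _
  have hfull' : ∀ j : ℕ, ∀ hj : j < n, Full G (e ⟨n - 1 - j, by omega⟩) := by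
    intro j
    induction j with
    | zero => intro _; exact hfull
    | succ j ih =>
      intro hj
      let a : Fin n := ⟨n - 1 - j, by omega⟩
      let a' : Fin n := ⟨n - 1 - (j + 1), by omega⟩
      have h1 : e a ᵥ* v.1 = e a + c a • e a' := dotProduct_eq _ _ fun x => by
        rw [← Matrix.dotProduct_mulVec, add_dotProduct, smul_dotProduct]
        simp only [e, single_dotProduct, one_mul, smul_eq_mul]
        rw [hv, if_pos (by simp only [a]; omega)]
        congr 3
      have h2 := ((ih (by omega)).conj hvG).add ((ih (by omega)).smul (-1))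
      rw [h1] at h2
      have h3 := h2.smul (c a)⁻¹
      convert h3 using 1
      rw [smul_add, smul_add, smul_smul, inv_mul_cancel₀ (hc a), one_smul]
      simp only [a, a']
      module
  have : Nontrivial (Fin n) := Fin.nontrivial_iff_two_le.mpr (by omega)
  rw [eq_top_iff, ← Classical.sl_closure_transvections, Subgroup.closure_le]
  rintro g ⟨i, j, hij, t, rfl⟩
  have hj := hfull' (n - 1 - j) (by omega)
  rw [show (⟨n - 1 - (n - 1 - (j : ℕ)), _⟩ : Fin n) = j from Fin.ext (by simp only; omega)] at hj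
  obtain ⟨-, g, hg, hga⟩ := hj (t • e i) (by
    simp [e, Ne.symm hij])
  have : g = Matrix.SpecialLinearGroup.transvection hij t := by
    apply Subtype.ext
    rw [hga, Matrix.SpecialLinearGroup.transvection_coe]
    apply ext_mulVec
    intro x
    rw [tv_mulVec]
    simp [Matrix.add_mulVec, Matrix.single_mulVec, e]
    funext k
    rcases eq_or_ne k i with rfl | hk
    · simp; ring
    · simp [hk]
  rwa [← this]

theorem exists_three [Fintype F] (hn : 3 ≤ n) :
    ∃ u g h : Matrix.SpecialLinearGroup (Fin n) F,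
      (IsNilpotent ((u : Matrix (Fin n) (Fin n) F) - 1) ∧
        ((u : Matrix (Fin n) (Fin n) F) - 1) ^ (n - 1) ≠ 0) ∧
      Subgroup.closure ({u, g * u * g⁻¹, h * u * h⁻¹} :
        Set (Matrix.SpecialLinearGroup (Fin n) F)) = ⊤ := by
  classical
  let N : Matrix (Fin n) (Fin n) F := Matrix.of fun i j => if (j : ℕ) = i + 1 then 1 else 0
  have hN : ∀ (x : Fin n → F) (i : Fin n),
      (N *ᵥ x) i = if h : (i : ℕ) + 1 < n then x ⟨i + 1, h⟩ else 0 := by
    intro x i
    simp only [N, Matrix.mulVec, dotProduct, Matrix.of_apply, ite_mul, one_mul, zero_mul]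
    split_ifs with h
    · rw [Finset.sum_eq_single (⟨i + 1, h⟩ : Fin n)]
      · simp
      · intro b _ hb
        rw [if_neg fun h' => hb (Fin.ext h')]
      · simp
    · exact Finset.sum_eq_zero fun b _ => if_neg (by omega)
  let u : Matrix.SpecialLinearGroup (Fin n) F := ⟨1 + N, by
    rw [Matrix.det_of_isUpperTriangular]
    · exact Finset.prod_eq_one fun i _ => by simp [N]
    · intro i j hij
      simp only [id_eq, Fin.lt_def] at hij
      rw [Matrix.add_apply, Matrix.one_apply_ne (Fin.ne_of_val_ne (by omega)), zero_add]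
      simp only [N, Matrix.of_apply]
      exact if_neg (by omega)⟩
  have hu : ∀ (x : Fin n → F) (i : Fin n),
      (u.1 *ᵥ x) i = x i + if h : (i : ℕ) + 1 < n then x ⟨i + 1, h⟩ else 0 := fun x i => by
    change ((1 + N) *ᵥ x) i = _
    rw [Matrix.add_mulVec, Matrix.one_mulVec, Pi.add_apply, hN]
  have hNpow : ∀ (k : ℕ) (x : Fin n → F) (i : Fin n),
      (N ^ k *ᵥ x) i = if h : (i : ℕ) + k < n then x ⟨i + k, h⟩ else 0 := by
    intro k
    induction k with
    | zero => intro x i; simp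
    | succ k ih =>
      intro x i
      rw [pow_succ, ← Matrix.mulVec_mulVec, ih]
      by_cases h : (i : ℕ) + k < n
      · rw [dif_pos h, hN]
        simp only [Nat.add_assoc]
      · rw [dif_neg h, dif_neg (by omega)]
  have hu1 : (u : Matrix (Fin n) (Fin n) F) - 1 = N := by
    change 1 + N - 1 = N
    rw [add_sub_cancel_left]
  have hnil : IsNilpotent N := ⟨n, ext_mulVec fun x => funext fun i => by
    rw [hNpow, dif_neg (by omega), Matrix.zero_mulVec]; rfl⟩
  have hreg : N ^ (n - 1) ≠ 0 := fun h => by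
    have := hNpow (n - 1) (fun _ => 1) ⟨0, by omega⟩
    rw [h, Matrix.zero_mulVec, dif_pos (by simp only; omega)] at this
    simp at this
  -- the reversing monomial matrix
  let d₀ : F := (Equiv.Perm.sign (Fin.revPerm (n := n)) : ℤ)
  let d : Fin n → F := Function.update 1 ⟨0, by omega⟩ d₀
  have hd₀ : d₀ * d₀ = 1 := by
    simp only [d₀]
    rw [← Int.cast_mul, Int.units_coe_mul_self, Int.cast_one]
  have hd : ∀ i, d i ≠ 0 := by
    intro i
    simp only [d, Function.update_apply]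
    split_ifs
    · exact left_ne_zero_of_mul_eq_one hd₀
    · exact one_ne_zero
  let h : Matrix.SpecialLinearGroup (Fin n) F := ⟨Fin.revPerm.permMatrix F * Matrix.diagonal d, by
    rw [Matrix.det_mul, Matrix.det_permutation, Matrix.det_diagonal,
      Finset.prod_update_of_mem (Finset.mem_univ _)]
    simp [d₀, ← Int.cast_mul, Int.units_coe_mul_self]⟩
  have hh : ∀ (x : Fin n → F) (i : Fin n), (h.1 *ᵥ x) i = d i.rev * x i.rev := by
    intro x i
    change ((Fin.revPerm.permMatrix F * Matrix.diagonal d) *ᵥ x) i = _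
    rw [← Matrix.mulVec_mulVec, Matrix.permMatrix_mulVec]
    simp [Matrix.mulVec_diagonal]
  let v := h * u * h⁻¹
  let c : Fin n → F := fun i =>
    if hi : 0 < (i : ℕ) then d i.rev / d (⟨(i : ℕ) - 1, by omega⟩ : Fin n).rev else 1
  have hc : ∀ i, c i ≠ 0 := by
    intro i
    simp only [c]
    split_ifs
    · exact div_ne_zero (hd _) (hd _)
    · exact one_ne_zero
  have hv : ∀ (x : Fin n → F) (i : Fin n),
      (v.1 *ᵥ x) i = x i + if 0 < (i : ℕ) then c i * x ⟨(i : ℕ) - 1, by omega⟩ else 0 := by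
    intro x i
    obtain ⟨y, rfl⟩ : ∃ y, h.1 *ᵥ y = x := ⟨(h⁻¹).1 *ᵥ x, by
      rw [Matrix.mulVec_mulVec, ← Matrix.SpecialLinearGroup.coe_mul, mul_inv_cancel,
        Matrix.SpecialLinearGroup.coe_one, Matrix.one_mulVec]⟩
    rw [Matrix.mulVec_mulVec, ← Matrix.SpecialLinearGroup.coe_mul,
      show v * h = h * u from inv_mul_cancel_right (h * u) h, Matrix.SpecialLinearGroup.coe_mul,
      ← Matrix.mulVec_mulVec, hh, hu, mul_add, hh, hh]
    congr 1
    by_cases hi : 0 < (i : ℕ)
    · rw [if_pos hi, dif_pos (by rw [Fin.val_rev]; omega)]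
      simp only [c, dif_pos hi]
      rw [← mul_assoc, div_mul_cancel₀ _ (hd _)]
      congr 2
      ext
      simp only [Fin.val_rev]
      omega
    · rw [if_neg hi, dif_neg (by rw [Fin.val_rev]; omega), mul_zero]
  obtain ⟨γ, hγ⟩ := IsCyclic.exists_generator (α := Fˣ)
  let i0 : Fin n := ⟨0, by omega⟩
  let i1 : Fin n := ⟨1, by omega⟩
  let L : Fin n := ⟨n - 1, by omega⟩
  let K : F := (Pi.single L 1 ᵥ* (v⁻¹).1) i0 * c i1
  let w : F := (γ : F) / K
  have hL0 : L ≠ i0 := Fin.ne_of_val_ne (by simp only [L, i0]; omega)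
  have hL1 : L ≠ i1 := Fin.ne_of_val_ne (by simp only [L, i1]; omega)
  let g : Matrix.SpecialLinearGroup (Fin n) F := tE ((-w) • Pi.single i1 1) (Pi.single L 1) (by
    simp [hL1])
  let x : Matrix.SpecialLinearGroup (Fin n) F := tE (w • Pi.single i0 1) (Pi.single L 1) (by
    simp [hL0])
  have hgu : g * u = u * x * g := by
    apply Subtype.ext
    apply ext_mulVec
    intro y
    simp only [Matrix.SpecialLinearGroup.coe_mul, ← Matrix.mulVec_mulVec]
    change tv _ _ *ᵥ (u.1 *ᵥ y) = u.1 *ᵥ (tv _ _ *ᵥ (tv _ _ *ᵥ y))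
    have hL : (u.1 *ᵥ y) L = y L := by rw [hu, dif_neg (by simp only [L]; omega), add_zero]
    have hu0 : u.1 *ᵥ (Pi.single i0 1 : Fin n → F) = Pi.single i0 1 := by
      funext i
      rw [hu]
      split_ifs with h'
      · have h0 : (Pi.single i0 (1 : F) : Fin n → F) ⟨i + 1, h'⟩ = 0 :=
          Pi.single_eq_of_ne (Fin.ne_of_val_ne (by simp [i0])) _
        rw [h0, add_zero]
      · rw [add_zero]
    have hu1 : u.1 *ᵥ (Pi.single i1 1 : Fin n → F) = Pi.single i1 1 + Pi.single i0 1 := by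
      funext i
      rw [hu, Pi.add_apply]
      congr 1
      rcases eq_or_ne i i0 with rfl | hi
      · rw [dif_pos (show (i0 : ℕ) + 1 < n by simp only [i0]; omega), Pi.single_eq_same]
        exact Pi.single_eq_same (M := fun _ => F) i1 1
      · rw [Pi.single_eq_of_ne hi]
        split_ifs with h'
        · rw [Pi.single_eq_of_ne fun h'' => hi (Fin.ext (by
            have := congrArg Fin.val h''; simp only [i1, i0] at this ⊢; omega))]
        · rfl
    have hLs : ∀ z : Fin n → F, (Pi.single L 1 : Fin n → F) ⬝ᵥ z = z L := fun z => by simp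
    have hi1 : (Pi.single i1 1 : Fin n → F) L = 0 := Pi.single_eq_of_ne hL1 _
    simp only [tv_mulVec, hLs, hi1, hL, Matrix.mulVec_add, Matrix.mulVec_smul, hu0, hu1]
    module
  refine ⟨u, g, h, ⟨by rw [hu1]; exact hnil, by rw [hu1]; exact hreg⟩, ?_⟩
  set G := Subgroup.closure ({u, g * u * g⁻¹, h * u * h⁻¹} :
    Set (Matrix.SpecialLinearGroup (Fin n) F))
  have huG : u ∈ G := Subgroup.subset_closure (by simp)
  have hvG : v ∈ G := Subgroup.subset_closure (by simp [v])
  have hxG : x ∈ G := by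
    have : x = u⁻¹ * (g * u * g⁻¹) := by rw [hgu]; group
    rw [this]
    exact mul_mem (inv_mem huG) (Subgroup.subset_closure (by simp))
  refine top_of_three hn huG hvG c hc hu hv fun K' hK' hK0 => ⟨(γ : F), fun z hz => ?_, ?_⟩
  · obtain ⟨k, hk⟩ := mem_powers_iff_mem_zpowers.mpr (hγ (Units.mk0 z hz))
    refine ⟨k + orderOf γ, by have := orderOf_pos γ; omega, ?_⟩
    rw [← Units.val_pow_eq_pow_val, pow_add, pow_orderOf_eq_one, mul_one]
    exact congrArg Units.val hk
  · refine ⟨?_, x, hxG, by rw [hK']; rfl⟩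
    change (Pi.single L 1 : Fin n → F) ⬝ᵥ (((γ : F) / K') • Pi.single i0 1) = 0
    simp [hL0]

end Cfsg.Agent.Small.Generation
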